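import Mathlib.AlgebraicGeometry.Morphisms.Flat
import Mathlib.AlgebraicGeometry.Morphisms.Separated
import Mathlib.AlgebraicGeometry.Morphisms.ClosedImmersion
import Mathlib.AlgebraicGeometry.FunctionField
import Mathlib.AlgebraicGeometry.IdealSheaf.Subscheme
import Mathlib.AlgebraicGeometry.PullbackCarrier
import Mathlib.RingTheory.IsTensorProduct
import Mathlib.RingTheory.Flat.Basic

/-!
# The generic fibre of a flat scheme over an integral scheme is schematically dense
-/

set_option autoImplicit false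
set_option linter.style.haveILetI false
set_option backward.isDefEq.respectTransparency false
set_option backward.isDefEq.respectTransparency.types false

universe u

open CategoryTheory CategoryTheory.Limits AlgebraicGeometry Opposite TopologicalSpace
open scoped TensorProduct

namespace Groth.Agent.FlatGenHx

variable {T Y : Scheme.{u}} [IsIntegral T] (pY : Y ⟶ T) [Flat pY]

/-- The inclusion of the generic fibre. -/
noncomputable abbrev jgen : pullback pY (T.fromSpecStalk (genericPoint T)) ⟶ Y :=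
  pullback.fst pY (T.fromSpecStalk (genericPoint T))

/-- A section on an affine open vanishing on the generic fibre vanishes. -/
theorem eq_zero_of_affine {W : T.Opens} (hW : IsAffineOpen W) {V : Y.Opens} (hV : IsAffineOpen V)
    (hVW : V ≤ pY ⁻¹ᵁ W) (t : Γ(Y, V)) (ht : (jgen pY).app V t = 0) : t = 0 := by
  rcases isEmpty_or_nonempty V with hVe | ⟨⟨v, hv⟩⟩
  · haveI : Subsingleton Γ(Y, V) := by
      have : V = ⊥ := Opens.ext (Set.eq_empty_of_forall_notMem fun x hx => hVe.elim ⟨x, hx⟩)
      subst this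
      infer_instance
    exact Subsingleton.elim _ _
  have hgW : genericPoint T ∈ W :=
    (genericPoint_spec T).mem_open_set_iff W.isOpen |>.2 ⟨pY v, trivial, hVW hv⟩
  haveI : Nonempty W := ⟨⟨_, hgW⟩⟩
  let η := T.fromSpecStalk (genericPoint T)
  let K := T.presheaf.stalk (genericPoint T)
  have hUS : (⊤ : (Spec K).Opens) ≤ η ⁻¹ᵁ W := by
    intro x _
    show η x ∈ W
    have : η x ⤳ genericPoint T := by
      have hx : η x ∈ Set.range η := ⟨x, rfl⟩
      rw [Scheme.range_fromSpecStalk] at hx
      exact hx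
    exact this.mem_open W.isOpen hgW
  let V' := pullback.fst pY η ⁻¹ᵁ V ⊓ pullback.snd pY η ⁻¹ᵁ (⊤ : (Spec K).Opens)
  have H := IsPullback.of_hasPullback pY η
  have hpo := (isIso_pushoutSection_iff H hUS hVW (UY := V') rfl).mp
    (isIso_pushoutSection_of_isAffineOpen H hUS hVW rfl hW (isAffineOpen_top _) hV)
  letI : Algebra Γ(T, W) Γ(Y, V) := (pY.appLE W V hVW).hom.toAlgebra
  letI : Algebra Γ(T, W) Γ(Spec K, ⊤) := (η.appLE W ⊤ hUS).hom.toAlgebra
  letI : Algebra Γ(Y, V) Γ((pullback pY η : Scheme.{u}), V') :=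
    ((pullback.fst pY η).appLE V V' inf_le_left).hom.toAlgebra
  letI : Algebra Γ(Spec K, ⊤) Γ((pullback pY η : Scheme.{u}), V') :=
    ((pullback.snd pY η).appLE ⊤ V' inf_le_right).hom.toAlgebra
  letI : Algebra Γ(T, W) Γ((pullback pY η : Scheme.{u}), V') :=
    (pY.appLE W V hVW ≫ (pullback.fst pY η).appLE V V' inf_le_left).hom.toAlgebra
  haveI : IsScalarTower Γ(T, W) Γ(Y, V) Γ((pullback pY η : Scheme.{u}), V') := .of_algebraMap_eq fun _ => rfl
  haveI : IsScalarTower Γ(T, W) Γ(Spec K, ⊤) Γ((pullback pY η : Scheme.{u}), V') :=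
    .of_algebraMap_eq fun r => congr($(hpo.w).hom r)
  haveI hP : Algebra.IsPushout Γ(T, W) Γ(Y, V) Γ(Spec K, ⊤) Γ((pullback pY η : Scheme.{u}), V') :=
    CommRingCat.isPushout_iff_isPushout.mp hpo
  haveI : Module.Flat Γ(T, W) Γ(Y, V) := HasRingHomProperty.appLE @Flat pY inferInstance ⟨W, hW⟩ ⟨V, hV⟩ hVW
  have hinj : Function.Injective (algebraMap Γ(T, W) Γ(Spec K, ⊤)) := by
    have h1 : η.appLE W ⊤ hUS = T.presheaf.germ W (genericPoint T) hgW ≫ (Scheme.ΓSpecIso K).inv := by
      rw [Scheme.Hom.appLE, Scheme.fromSpecStalk_app hgW, Category.assoc, Category.assoc, ← Functor.map_comp,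
        show (homOfLE le_top).op ≫ (homOfLE hUS).op = (𝟙 (op (⊤ : (Spec K).Opens))) from Subsingleton.elim _ _,
        CategoryTheory.Functor.map_id, Category.comp_id]
    intro a b hab
    have hab' : η.appLE W ⊤ hUS a = η.appLE W ⊤ hUS b := hab
    rw [h1, CommRingCat.comp_apply, CommRingCat.comp_apply] at hab'
    exact Scheme.germToFunctionField_injective T W
      ((Scheme.ΓSpecIso K).commRingCatIsoToRingEquiv.symm.injective hab')
  have h2 := Module.Flat.lTensor_preserves_injective_linearMap (M := Γ(Y, V))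
    (Algebra.linearMap Γ(T, W) Γ(Spec K, ⊤)) hinj
  have h3 : t ⊗ₜ[Γ(T, W)] (1 : Γ(Spec K, ⊤)) = 0 := by
    apply (Algebra.IsPushout.equiv Γ(T, W) Γ(Y, V) Γ(Spec K, ⊤) Γ((pullback pY η : Scheme.{u}), V')).injective
    rw [map_zero, Algebra.IsPushout.equiv_tmul, map_one, mul_one]
    show (pullback.fst pY η).appLE V V' inf_le_left t = 0
    rw [Scheme.Hom.appLE, CommRingCat.comp_apply,
      show (pullback.fst pY η).app V t = 0 from ht, map_zero]
  have h4 : t ⊗ₜ[Γ(T, W)] (1 : Γ(T, W)) = 0 := h2 (by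
    rw [LinearMap.lTensor_tmul, Algebra.linearMap_apply, map_one, h3, map_zero])
  simpa using congrArg (TensorProduct.rid Γ(T, W) Γ(Y, V)) h4

/-- The generic fibre of a flat scheme over an integral scheme is schematically dense. -/
theorem app_eq_zero (V : Y.Opens) (t : Γ(Y, V)) (ht : (jgen pY).app V t = 0) : t = 0 := by
  refine TopCat.Presheaf.section_ext Y.sheaf V t 0 fun y hy => ?_
  obtain ⟨W, hW, hyW, -⟩ := exists_isAffineOpen_mem_and_subset (x := pY y) (U := ⊤) trivial
  obtain ⟨V₀, hV₀, hyV₀, hle⟩ := exists_isAffineOpen_mem_and_subset (x := y) (U := pY ⁻¹ᵁ W ⊓ V) ⟨hyW, hy⟩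
  have hle' : V₀ ≤ V := fun x hx => (hle hx).2
  have h0 : Y.presheaf.map (homOfLE hle').op t = 0 :=
    eq_zero_of_affine pY hW hV₀ (fun x hx => (hle hx).1) _ (by
      have := (jgen pY).naturality (homOfLE hle').op
      rw [← CommRingCat.comp_apply, this, CommRingCat.comp_apply, ht, map_zero])
  change Y.presheaf.germ V y hy t = Y.presheaf.germ V y hy 0
  rw [← Y.presheaf.germ_res_apply (homOfLE hle') y hyV₀ t, h0, map_zero, map_zero]

theorem ker_jgen_eq_bot : (jgen pY).ker = ⊥ := by
  refine le_bot_iff.1 fun U t ht => ?_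
  exact app_eq_zero pY _ t ((jgen pY).ideal_ker_le U ht)

variable {Z : Scheme.{u}} (pZ : Z ⟶ T) [IsSeparated pZ]

/-- Morphisms to a separated scheme which agree on the generic fibre are equal. -/
theorem hom_ext_of_generic {a b : Y ⟶ Z} (hab : a ≫ pZ = b ≫ pZ) (h : jgen pY ≫ a = jgen pY ≫ b) : a = b := by
  let e := pullback.fst (pullback.lift a b hab) (pullback.diagonal pZ)
  haveI : IsClosedImmersion (pullback.diagonal pZ) := IsSeparated.isClosedImmersion_diagonal
  haveI : IsClosedImmersion e := MorphismProperty.pullback_fst (P := @IsClosedImmersion) _ _ inferInstance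
  let k : pullback pY (T.fromSpecStalk (genericPoint T)) ⟶ pullback (pullback.lift a b hab) (pullback.diagonal pZ) :=
    pullback.lift (jgen pY) (jgen pY ≫ a) (by
      apply pullback.hom_ext <;> simp [h])
  have hk : k ≫ e = jgen pY := pullback.lift_fst _ _ _
  have hker : e.ker = ⊥ := le_bot_iff.1 ((Scheme.Hom.le_ker_comp k e).trans (hk ▸ (ker_jgen_eq_bot pY).le))
  haveI : IsIso e := by
    haveI : IsIso e.imageι := (Scheme.isIso_subschemeι_iff_eq_bot _).2 hker
    rw [← e.toImage_imageι]
    infer_instance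
  rw [← cancel_epi e]
  have hc := pullback.condition (f := pullback.lift a b hab) (g := pullback.diagonal pZ)
  have h1 := congrArg (· ≫ pullback.fst pZ pZ) hc
  have h2 := congrArg (· ≫ pullback.snd pZ pZ) hc
  simp only [Category.assoc, pullback.lift_fst, pullback.lift_snd, pullback.diagonal_fst,
    pullback.diagonal_snd] at h1 h2
  exact h1.trans h2.symm

end Groth.Agent.FlatGenHx
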